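import Mathlib
import Groth.Agent.RatMap.Spread
/-!
Spreading out isomorphisms of local rings; fibres of birational morphisms over generic points.
-/
universe u
open AlgebraicGeometry CategoryTheory CategoryTheory.Limits
set_option backward.isDefEq.respectTransparency false
set_option linter.style.haveILetI false

namespace Groth.Agent.Birat

theorem fromSpecStalkOfMem_homOfLE {X : Scheme.{u}} {U V : X.Opens} (h : U ≤ V) (x : X) (hx : x ∈ U) :
    U.fromSpecStalkOfMem x hx ≫ X.homOfLE h = V.fromSpecStalkOfMem x (h hx) := by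
  rw [← cancel_mono V.ι, Category.assoc, Scheme.homOfLE_ι, Scheme.Opens.fromSpecStalkOfMem_ι,
    Scheme.Opens.fromSpecStalkOfMem_ι]

theorem eq_near {X Y S : Scheme.{u}} (sY : Y ⟶ S) [LocallyOfFiniteType sY] {U : X.Opens} {x : X}
    (hx : x ∈ U) (a b : U.toScheme ⟶ Y) (hab : a ≫ sY = b ≫ sY)
    (e : U.fromSpecStalkOfMem x hx ≫ a = U.fromSpecStalkOfMem x hx ≫ b) :
    ∃ W : X.Opens, x ∈ W ∧ ∃ h : W ≤ U, X.homOfLE h ≫ a = X.homOfLE h ≫ b := by
  have e' : U.toScheme.fromSpecStalk ⟨x, hx⟩ ≫ a = U.toScheme.fromSpecStalk ⟨x, hx⟩ ≫ b := by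
    simp only [Scheme.Opens.fromSpecStalkOfMem, Category.assoc] at e
    exact (cancel_epi _).1 e
  obtain ⟨W, hxW, hW⟩ := RatMap.spread_out_unique_of_locallyOfFiniteType (a ≫ sY) sY a b rfl hab.symm e'
  refine ⟨U.ι ''ᵁ W, ⟨⟨x, hx⟩, hxW, rfl⟩, fun z hz => ?_, ?_⟩
  · obtain ⟨w, -, rfl⟩ := hz
    exact w.2
  · have hle : U.ι ''ᵁ W ≤ U := fun z hz => by obtain ⟨w, -, rfl⟩ := hz; exact w.2
    have h1 : (U.ι.isoImage W).hom ≫ X.homOfLE hle = W.ι := by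
      rw [← cancel_mono U.ι, Category.assoc, Scheme.homOfLE_ι, Scheme.Hom.isoImage_hom_ι]
    rw [← cancel_epi (U.ι.isoImage W).hom, ← Category.assoc, ← Category.assoc]
    exact ((congrArg (· ≫ a) h1).trans hW).trans (congrArg (· ≫ b) h1).symm

/-- Two mutually inverse germs of morphisms give a local isomorphism. -/
theorem exists_isIso {X Y S : Scheme.{u}} (sX : X ⟶ S) (sY : Y ⟶ S) [LocallyOfFiniteType sX]
    [LocallyOfFiniteType sY] {x : X} {y : Y} {U : X.Opens} (hxU : x ∈ U) {V : Y.Opens} (hyV : y ∈ V)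
    (f : U.toScheme ⟶ Y) (g : V.toScheme ⟶ X) (hf : f ≫ sY = U.ι ≫ sX) (hg : g ≫ sX = V.ι ≫ sY)
    (a : Spec (X.presheaf.stalk x) ⟶ Spec (Y.presheaf.stalk y))
    (b : Spec (Y.presheaf.stalk y) ⟶ Spec (X.presheaf.stalk x)) (hab : a ≫ b = 𝟙 _) (hba : b ≫ a = 𝟙 _)
    (hfa : U.fromSpecStalkOfMem x hxU ≫ f = a ≫ Y.fromSpecStalk y)
    (hgb : V.fromSpecStalkOfMem y hyV ≫ g = b ≫ X.fromSpecStalk x)
    (U₀ : X.Opens) (hxU₀ : x ∈ U₀) (V₀ : Y.Opens) (hyV₀ : y ∈ V₀) :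
    ∃ (U' : X.Opens) (hxU' : x ∈ U') (V' : Y.Opens) (_ : y ∈ V') (f' : U'.toScheme ⟶ V'.toScheme),
      IsIso f' ∧ U' ≤ U₀ ∧ V' ≤ V₀ ∧ f' ≫ V'.ι ≫ sY = U'.ι ≫ sX ∧
        U'.fromSpecStalkOfMem x hxU' ≫ f' ≫ V'.ι = a ≫ Y.fromSpecStalk y := by
  -- the two points correspond
  have hfx : f ⟨x, hxU⟩ = y := by
    haveI : IsIso a := ⟨b, hab, hba⟩
    have h1 : U.fromSpecStalkOfMem x hxU (IsLocalRing.closedPoint _) = ⟨x, hxU⟩ :=
      U.ι.injective (by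
        rw [← Scheme.Hom.comp_apply, Scheme.Opens.fromSpecStalkOfMem_ι]
        exact Scheme.fromSpecStalk_closedPoint)
    rw [← h1, ← Scheme.Hom.comp_apply, hfa, Scheme.Hom.comp_apply]
    obtain ⟨c, rfl⟩ := Spec.map_surjective a
    obtain ⟨d, rfl⟩ := Spec.map_surjective b
    haveI : IsIso c := ⟨d, Spec.map_injective (by rw [Spec.map_comp, hba, Spec.map_id]),
      Spec.map_injective (by rw [Spec.map_comp, hab, Spec.map_id])⟩
    rw [show Spec.map c (IsLocalRing.closedPoint _) = IsLocalRing.closedPoint _ from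
      IsLocalRing.comap_closedPoint c.hom]
    exact Scheme.fromSpecStalk_closedPoint
  have hgy : g ⟨y, hyV⟩ = x := by
    haveI : IsIso b := ⟨a, hba, hab⟩
    have h1 : V.fromSpecStalkOfMem y hyV (IsLocalRing.closedPoint _) = ⟨y, hyV⟩ :=
      V.ι.injective (by
        rw [← Scheme.Hom.comp_apply, Scheme.Opens.fromSpecStalkOfMem_ι]
        exact Scheme.fromSpecStalk_closedPoint)
    rw [← h1, ← Scheme.Hom.comp_apply, hgb, Scheme.Hom.comp_apply]
    obtain ⟨c, rfl⟩ := Spec.map_surjective b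
    obtain ⟨d, rfl⟩ := Spec.map_surjective a
    haveI : IsIso c := ⟨d, Spec.map_injective (by rw [Spec.map_comp, hab, Spec.map_id]),
      Spec.map_injective (by rw [Spec.map_comp, hba, Spec.map_id])⟩
    rw [show Spec.map c (IsLocalRing.closedPoint _) = IsLocalRing.closedPoint _ from
      IsLocalRing.comap_closedPoint c.hom]
    exact Scheme.fromSpecStalk_closedPoint
  -- restrict `f` and `g` so that they compose
  let U₁ : X.Opens := U.ι ''ᵁ (f ⁻¹ᵁ V)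
  have hU₁ : U₁ ≤ U := fun z hz => by obtain ⟨w, -, rfl⟩ := hz; exact w.2
  have hxU₁ : x ∈ U₁ := ⟨⟨x, hxU⟩, show f ⟨x, hxU⟩ ∈ V by rw [hfx]; exact hyV, rfl⟩
  let V₁ : Y.Opens := V.ι ''ᵁ (g ⁻¹ᵁ U)
  have hV₁ : V₁ ≤ V := fun z hz => by obtain ⟨w, -, rfl⟩ := hz; exact w.2
  have hyV₁ : y ∈ V₁ := ⟨⟨y, hyV⟩, show g ⟨y, hyV⟩ ∈ U by rw [hgy]; exact hxU, rfl⟩
  have hr₁ : Set.range (X.homOfLE hU₁ ≫ f) ⊆ Set.range V.ι := by
    rintro _ ⟨w, rfl⟩
    rw [Scheme.Opens.range_ι, Scheme.Hom.comp_apply]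
    obtain ⟨w', hw', hw⟩ := w.2
    have : X.homOfLE hU₁ w = w' := Subtype.ext (by simpa using hw.symm)
    rw [this]; exact hw'
  let f₁ : U₁.toScheme ⟶ V := IsOpenImmersion.lift V.ι (X.homOfLE hU₁ ≫ f) hr₁
  have hf₁ : f₁ ≫ V.ι = X.homOfLE hU₁ ≫ f := IsOpenImmersion.lift_fac _ _ _
  have hr₂ : Set.range (Y.homOfLE hV₁ ≫ g) ⊆ Set.range U.ι := by
    rintro _ ⟨w, rfl⟩
    rw [Scheme.Opens.range_ι, Scheme.Hom.comp_apply]
    obtain ⟨w', hw', hw⟩ := w.2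
    have : Y.homOfLE hV₁ w = w' := Subtype.ext (by simpa using hw.symm)
    rw [this]; exact hw'
  let g₁ : V₁.toScheme ⟶ U := IsOpenImmersion.lift U.ι (Y.homOfLE hV₁ ≫ g) hr₂
  have hg₁ : g₁ ≫ U.ι = Y.homOfLE hV₁ ≫ g := IsOpenImmersion.lift_fac _ _ _
  have ea : U₁.fromSpecStalkOfMem x hxU₁ ≫ f₁ = a ≫ V.fromSpecStalkOfMem y hyV := by
    rw [← cancel_mono V.ι, Category.assoc, Category.assoc, hf₁, ← Category.assoc,
      fromSpecStalkOfMem_homOfLE, hfa, Scheme.Opens.fromSpecStalkOfMem_ι]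
  have eb : V₁.fromSpecStalkOfMem y hyV₁ ≫ g₁ = b ≫ U.fromSpecStalkOfMem x hxU := by
    rw [← cancel_mono U.ι, Category.assoc, Category.assoc, hg₁, ← Category.assoc,
      fromSpecStalkOfMem_homOfLE, hgb, Scheme.Opens.fromSpecStalkOfMem_ι]
  obtain ⟨W, hxW, hWU, hW⟩ := eq_near sX hxU₁ (f₁ ≫ g) U₁.ι
    (by rw [Category.assoc, hg, ← Category.assoc, hf₁, Category.assoc, hf, Scheme.homOfLE_ι_assoc])
    (by rw [← Category.assoc, ea, Category.assoc, hgb, ← Category.assoc, hab, Category.id_comp,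
      Scheme.Opens.fromSpecStalkOfMem_ι])
  obtain ⟨W', hyW', hWV, hW'⟩ := eq_near sY hyV₁ (g₁ ≫ f) V₁.ι
    (by rw [Category.assoc, hf, ← Category.assoc, hg₁, Category.assoc, hg, Scheme.homOfLE_ι_assoc])
    (by rw [← Category.assoc, eb, Category.assoc, hfa, ← Category.assoc, hba, Category.id_comp,
      Scheme.Opens.fromSpecStalkOfMem_ι])
  -- the underlying maps
  let F : W.toScheme ⟶ Y := X.homOfLE (hWU.trans hU₁) ≫ f
  let G : W'.toScheme ⟶ X := Y.homOfLE (hWV.trans hV₁) ≫ g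
  let U' : X.Opens := W.ι ''ᵁ (F ⁻¹ᵁ (W' ⊓ V₀) ⊓ W.ι ⁻¹ᵁ U₀)
  let V' : Y.Opens := W'.ι ''ᵁ (G ⁻¹ᵁ (W ⊓ U₀) ⊓ W'.ι ⁻¹ᵁ V₀)
  have hU' : U' ≤ W := fun z hz => by obtain ⟨w, -, rfl⟩ := hz; exact w.2
  have hV' : V' ≤ W' := fun z hz => by obtain ⟨w, -, rfl⟩ := hz; exact w.2
  have hFG : ∀ (w : W.toScheme) (hw : F w ∈ W'), G ⟨F w, hw⟩ = w.1 := by
    intro w hw
    have h1 := congrArg (fun t : W.toScheme ⟶ X => t w) hW
    simp only [Scheme.Hom.comp_apply] at h1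
    have h2 : f₁ (X.homOfLE hWU w) = Y.homOfLE (hWV.trans hV₁) ⟨F w, hw⟩ := by
      apply V.ι.injective
      rw [← Scheme.Hom.comp_apply, hf₁, ← Scheme.Hom.comp_apply, ← Category.assoc, Scheme.homOfLE_homOfLE,
        ← Scheme.Hom.comp_apply, Scheme.homOfLE_ι]
      rfl
    rw [h2] at h1
    exact h1.trans (by simp)
  have hGF : ∀ (w : W'.toScheme) (hw : G w ∈ W), F ⟨G w, hw⟩ = w.1 := by
    intro w hw
    have h1 := congrArg (fun t : W'.toScheme ⟶ Y => t w) hW'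
    simp only [Scheme.Hom.comp_apply] at h1
    have h2 : g₁ (Y.homOfLE hWV w) = X.homOfLE (hWU.trans hU₁) ⟨G w, hw⟩ := by
      apply U.ι.injective
      rw [← Scheme.Hom.comp_apply, hg₁, ← Scheme.Hom.comp_apply, ← Category.assoc, Scheme.homOfLE_homOfLE,
        ← Scheme.Hom.comp_apply, Scheme.homOfLE_ι]
      rfl
    rw [h2] at h1
    exact h1.trans (by simp)
  have hr : Set.range (X.homOfLE hU' ≫ F) ⊆ Set.range V'.ι := by
    rintro _ ⟨w, rfl⟩
    rw [Scheme.Opens.range_ι, Scheme.Hom.comp_apply]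
    obtain ⟨w', ⟨⟨hw1, hw2⟩, hw3⟩, hw⟩ := w.2
    have : X.homOfLE hU' w = w' := Subtype.ext (by simpa using hw.symm)
    rw [this]
    refine ⟨⟨F w', hw1⟩, ⟨?_, hw2⟩, rfl⟩
    change G ⟨F w', hw1⟩ ∈ W ⊓ U₀
    rw [hFG]
    exact ⟨w'.2, hw3⟩
  have hr' : Set.range (Y.homOfLE hV' ≫ G) ⊆ Set.range U'.ι := by
    rintro _ ⟨w, rfl⟩
    rw [Scheme.Opens.range_ι, Scheme.Hom.comp_apply]
    obtain ⟨w', ⟨⟨hw1, hw2⟩, hw3⟩, hw⟩ := w.2
    have : Y.homOfLE hV' w = w' := Subtype.ext (by simpa using hw.symm)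
    rw [this]
    refine ⟨⟨G w', hw1⟩, ⟨?_, hw2⟩, rfl⟩
    change F ⟨G w', hw1⟩ ∈ W' ⊓ V₀
    rw [hGF]
    exact ⟨w'.2, hw3⟩
  let a' : U'.toScheme ⟶ V'.toScheme := IsOpenImmersion.lift V'.ι (X.homOfLE hU' ≫ F) hr
  let b' : V'.toScheme ⟶ U'.toScheme := IsOpenImmersion.lift U'.ι (Y.homOfLE hV' ≫ G) hr'
  have ha' : a' ≫ V'.ι = X.homOfLE hU' ≫ F := IsOpenImmersion.lift_fac _ _ _
  have hb' : b' ≫ U'.ι = Y.homOfLE hV' ≫ G := IsOpenImmersion.lift_fac _ _ _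
  have k1 : a' ≫ Y.homOfLE (hV'.trans (hWV.trans hV₁)) = X.homOfLE (hU'.trans hWU) ≫ f₁ := by
    rw [← cancel_mono V.ι, Category.assoc, Category.assoc, Scheme.homOfLE_ι, ha', hf₁]
    simp only [F, Scheme.homOfLE_homOfLE_assoc]
  have k2 : b' ≫ X.homOfLE (hU'.trans (hWU.trans hU₁)) = Y.homOfLE (hV'.trans hWV) ≫ g₁ := by
    rw [← cancel_mono U.ι, Category.assoc, Category.assoc, Scheme.homOfLE_ι, hb', hg₁]
    simp only [G, Scheme.homOfLE_homOfLE_assoc]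
  have hab' : a' ≫ b' = 𝟙 _ := by
    rw [← cancel_mono U'.ι, Category.assoc, hb', Category.id_comp]
    simp only [G, Scheme.homOfLE_homOfLE_assoc]
    rw [← Category.assoc, k1, Category.assoc, ← Scheme.homOfLE_homOfLE_assoc X hU' hWU, hW,
      Scheme.homOfLE_ι, Scheme.homOfLE_ι]
  have hba' : b' ≫ a' = 𝟙 _ := by
    rw [← cancel_mono V'.ι, Category.assoc, ha', Category.id_comp]
    simp only [F, Scheme.homOfLE_homOfLE_assoc]
    rw [← Category.assoc, k2, Category.assoc, ← Scheme.homOfLE_homOfLE_assoc Y hV' hWV, hW',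
      Scheme.homOfLE_ι, Scheme.homOfLE_ι]
  have hxU' : x ∈ U' := by
    refine ⟨⟨x, hxW⟩, ⟨⟨?_, ?_⟩, hxU₀⟩, rfl⟩ <;>
    · change F ⟨x, hxW⟩ ∈ _
      simp only [F, Scheme.Hom.comp_apply]
      rw [show X.homOfLE (hWU.trans hU₁) ⟨x, hxW⟩ = ⟨x, hxU⟩ from Subtype.ext (by simp), hfx]
      assumption
  have hyV' : y ∈ V' := by
    refine ⟨⟨y, hyW'⟩, ⟨⟨?_, ?_⟩, hyV₀⟩, rfl⟩ <;>
    · change G ⟨y, hyW'⟩ ∈ _
      simp only [G, Scheme.Hom.comp_apply]
      rw [show Y.homOfLE (hWV.trans hV₁) ⟨y, hyW'⟩ = ⟨y, hyV⟩ from Subtype.ext (by simp), hgy]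
      assumption
  refine ⟨U', hxU', V', hyV', a', ⟨b', hab', hba'⟩, ?_, ?_, ?_, ?_⟩
  · rintro z ⟨w, ⟨-, hw⟩, rfl⟩; exact hw
  · rintro z ⟨w, ⟨-, hw⟩, rfl⟩; exact hw
  · rw [← Category.assoc, ha', Category.assoc]
    simp only [F, Category.assoc, hf, Scheme.homOfLE_ι_assoc]
  · rw [ha']
    simp only [F, Scheme.homOfLE_homOfLE_assoc]
    rw [← Category.assoc, fromSpecStalkOfMem_homOfLE, hfa]

/-- Stalk isomorphisms between schemes locally of finite presentation spread out. -/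
theorem exists_isIso_lfp {X Y S : Scheme.{u}} (sX : X ⟶ S) (sY : Y ⟶ S)
    [LocallyOfFinitePresentation sX] [LocallyOfFinitePresentation sY] {x : X} {y : Y}
    (φ : Y.presheaf.stalk y ⟶ X.presheaf.stalk x) [IsIso φ]
    (h : Spec.map φ ≫ Y.fromSpecStalk y ≫ sY = X.fromSpecStalk x ≫ sX)
    (U₀ : X.Opens) (hxU₀ : x ∈ U₀) (V₀ : Y.Opens) (hyV₀ : y ∈ V₀) :
    ∃ (U' : X.Opens) (hxU' : x ∈ U') (V' : Y.Opens) (_ : y ∈ V') (f' : U'.toScheme ⟶ V'.toScheme),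
      IsIso f' ∧ U' ≤ U₀ ∧ V' ≤ V₀ ∧ f' ≫ V'.ι ≫ sY = U'.ι ≫ sX ∧
        U'.fromSpecStalkOfMem x hxU' ≫ f' ≫ V'.ι = Spec.map φ ≫ Y.fromSpecStalk y := by
  obtain ⟨U, hxU, f, hf, hf'⟩ := RatMap.spread_out_of_locallyOfFinitePresentation sX sY
    (Spec.map φ ≫ Y.fromSpecStalk y) (by rw [Category.assoc]; exact h)
  obtain ⟨V, hyV, g, hg, hg'⟩ := RatMap.spread_out_of_locallyOfFinitePresentation sY sX
    (Spec.map (inv φ) ≫ X.fromSpecStalk x) (by
      rw [Category.assoc, ← h, ← Category.assoc, ← Spec.map_comp, IsIso.hom_inv_id, Spec.map_id,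
        Category.id_comp])
  exact exists_isIso sX sY hxU hyV f g hf' hg' (Spec.map φ) (Spec.map (inv φ))
    (by rw [← Spec.map_comp, IsIso.inv_hom_id, Spec.map_id])
    (by rw [← Spec.map_comp, IsIso.hom_inv_id, Spec.map_id]) hf.symm hg.symm U₀ hxU₀ V₀ hyV₀

/-- A point in the fibre over the image of a point with isomorphic stalk, to which it specializes. -/
theorem eq_of_specializes_of_isIso {X Y : Scheme.{u}} (f : X ⟶ Y) {x z : X} (h : x ⤳ z)
    (hf : f z = f x) [IsIso (f.stalkMap x)] : x = z := by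
  let s := X.presheaf.stalkSpecializes h
  have hcomm : f.stalkMap z ≫ s =
      Y.presheaf.stalkSpecializes (h.map f.continuous) ≫ f.stalkMap x :=
    (Scheme.Hom.stalkSpecializes_stalkMap f x z h).symm
  have hiso : IsIso (Y.presheaf.stalkSpecializes (h.map f.continuous)) := by
    refine ⟨Y.presheaf.stalkSpecializes (specializes_of_eq hf), ?_, ?_⟩
    · rw [TopCat.Presheaf.stalkSpecializes_comp, TopCat.Presheaf.stalkSpecializes_refl]
    · rw [TopCat.Presheaf.stalkSpecializes_comp, TopCat.Presheaf.stalkSpecializes_refl]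
  let e := Y.presheaf.stalkSpecializes (h.map f.continuous) ≫ f.stalkMap x
  haveI : IsIso e := inferInstance
  have hloc : IsLocalHom s.hom := by
    refine ⟨fun a ha => ?_⟩
    by_contra hau
    have hb : IsUnit ((inv e).hom (s.hom a)) := ha.map _
    let gb := (f.stalkMap z).hom ((inv e).hom (s.hom a))
    have hgb : IsUnit gb := hb.map _
    have h0 : s.hom gb = s.hom a := by
      change (inv e ≫ f.stalkMap z ≫ s).hom (s.hom a) = s.hom a
      rw [hcomm]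
      change (inv e ≫ e).hom (s.hom a) = _
      rw [IsIso.inv_hom_id]
      rfl
    have hker : ¬ IsUnit (gb - a) := fun hu => by
      have := hu.map s.hom
      rw [map_sub, h0, sub_self] at this
      exact not_isUnit_zero this
    have := IsLocalRing.nonunits_add (a := gb - a) (b := a) hker hau
    rw [sub_add_cancel] at this
    exact this hgb
  have h1 : Spec.map s (IsLocalRing.closedPoint _) = IsLocalRing.closedPoint _ := by
    haveI := hloc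
    exact IsLocalRing.comap_closedPoint s.hom
  have h2 := congrArg (X.fromSpecStalk z) h1
  rw [← Scheme.Hom.comp_apply, Scheme.SpecMap_stalkSpecializes_fromSpecStalk,
    Scheme.fromSpecStalk_closedPoint, Scheme.fromSpecStalk_closedPoint] at h2
  exact h2

end Groth.Agent.Birat
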