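import Mathlib
import Groth.Agent.Birat.Basic
import Groth.Agent.DomLib.Basic
/-!
Birational morphisms are isomorphisms near generic points.
-/
universe u
open AlgebraicGeometry CategoryTheory CategoryTheory.Limits TopologicalSpace
set_option backward.isDefEq.respectTransparency false
set_option linter.style.haveILetI false

namespace Groth.Agent.Birat

/-- A generic point of a component has an open neighbourhood meeting no other component. -/
theorem exists_open_sep {X : Scheme.{u}} (hfin : (irreducibleComponents (X : Type u)).Finite) {x : X}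
    (hx : closure ({x} : Set X) ∈ irreducibleComponents (X : Type u)) :
    ∃ O : X.Opens, x ∈ O ∧ (O : Set X) ⊆ closure {x} ∧ ∀ z ∈ O, ∀ η : X,
      closure ({η} : Set X) ∈ irreducibleComponents (X : Type u) → η ⤳ z → η = x := by
  let D := irreducibleComponents (X : Type u) \ {closure ({x} : Set X)}
  have hcl : IsClosed (⋃ C ∈ D, C) :=
    (hfin.subset Set.sdiff_subset).isClosed_biUnion fun C hC =>
      isClosed_of_mem_irreducibleComponents C hC.1
  refine ⟨⟨_, hcl.isOpen_compl⟩, ?_, ?_, ?_⟩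
  · intro h
    obtain ⟨C, ⟨hC, hne⟩, hxC⟩ := Set.mem_iUnion₂.1 h
    have hsub : closure {x} ⊆ C := closure_minimal (Set.singleton_subset_iff.2 hxC)
      (isClosed_of_mem_irreducibleComponents C hC)
    exact hne (Set.Subset.antisymm (hx.2 hC.1 hsub) hsub)
  · intro z hz
    by_contra h
    refine hz (Set.mem_iUnion₂.2 ⟨irreducibleComponent z,
      ⟨irreducibleComponent_mem_irreducibleComponents z, fun he => h ?_⟩, mem_irreducibleComponent⟩)
    exact (Set.mem_singleton_iff.1 he) ▸ mem_irreducibleComponent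
  · intro z hz η hη hηz
    by_contra h
    refine hz (Set.mem_iUnion₂.2 ⟨closure {η}, ⟨hη, fun he => h ?_⟩, specializes_iff_mem_closure.1 hηz⟩)
    have he' : closure ({η} : Set X) = closure {x} := Set.mem_singleton_iff.1 he
    have h1 : η ⤳ x := specializes_iff_mem_closure.2 (he' ▸ subset_closure rfl)
    have h2 : x ⤳ η := specializes_iff_mem_closure.2 (he'.symm ▸ subset_closure rfl)
    exact (h1.antisymm h2).eq

theorem isGermInjectiveAt_of_max {X : Scheme.{u}} [IsReduced X]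
    (hfin : (irreducibleComponents (X : Type u)).Finite) {x : X}
    (hx : closure ({x} : Set X) ∈ irreducibleComponents (X : Type u)) : X.IsGermInjectiveAt x := by
  obtain ⟨O, hxO, hOsub, -⟩ := exists_open_sep hfin hx
  haveI : Nonempty (O : Scheme.{u}) := ⟨⟨x, hxO⟩⟩
  haveI : IrreducibleSpace (O : Scheme.{u}) := by
    have h : IsIrreducible (O : Set X) := by
      refine isIrreducible_iff_closure.1 ?_
      rw [show closure (O : Set X) = closure {x} from
        Set.Subset.antisymm (closure_minimal hOsub isClosed_closure)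
          (closure_mono (Set.singleton_subset_iff.2 hxO))]
      exact isIrreducible_singleton.closure
    exact Subtype.irreducibleSpace h
  haveI : IsIntegral (O : Scheme.{u}) := isIntegral_of_irreducibleSpace_of_isReduced _
  exact (inferInstance : X.IsGermInjectiveAt (O.ι ⟨x, hxO⟩))

/-- Local isomorphism around a point with isomorphic stalk. -/
theorem exists_local_iso {X Y : Scheme.{u}} (f : X ⟶ Y)
    (hYfin : (irreducibleComponents (Y : Type u)).Finite) {x : X}
    (hy : closure ({f x} : Set Y) ∈ irreducibleComponents (Y : Type u)) [IsIso (f.stalkMap x)]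
    (hf : (LocallyOfFiniteType f ∧ IsReduced Y) ∨ LocallyOfFinitePresentation f)
    (U₀ : X.Opens) (hx₀ : x ∈ U₀) (V₀ : Y.Opens) (hy₀ : f x ∈ V₀) :
    ∃ (U : X.Opens) (_ : x ∈ U) (V : Y.Opens) (_ : f x ∈ V) (f' : U.toScheme ⟶ V.toScheme),
      IsIso f' ∧ U ≤ U₀ ∧ V ≤ V₀ ∧ f' ≫ V.ι = U.ι ≫ f := by
  rcases hf with ⟨hft, hred⟩ | hfp
  · haveI := isGermInjectiveAt_of_max hYfin hy
    obtain ⟨V, hyV, g, hg, hg'⟩ := spread_out_of_isGermInjective' (𝟙 Y) f
      (Spec.map (inv (f.stalkMap x)) ≫ X.fromSpecStalk x) (x := f x) (by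
        rw [Category.assoc, ← Scheme.SpecMap_stalkMap_fromSpecStalk, ← Category.assoc, ← Spec.map_comp,
          IsIso.hom_inv_id, Spec.map_id, Category.id_comp, Category.comp_id])
    obtain ⟨U', hxU', V', hyV', f', hiso, hU, hV, hf', -⟩ :=
      exists_isIso f (𝟙 Y) (U := ⊤) (x := x) trivial hyV ((⊤ : X.Opens).ι ≫ f) g
        (by simp) hg' (Spec.map (f.stalkMap x)) (Spec.map (inv (f.stalkMap x)))
        (by rw [← Spec.map_comp, IsIso.inv_hom_id, Spec.map_id])
        (by rw [← Spec.map_comp, IsIso.hom_inv_id, Spec.map_id])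
        (by rw [← Category.assoc, Scheme.Opens.fromSpecStalkOfMem_ι,
          Scheme.SpecMap_stalkMap_fromSpecStalk])
        hg.symm U₀ hx₀ V₀ hy₀
    exact ⟨U', hxU', V', hyV', f', hiso, hU, hV, by simpa using hf'⟩
  · obtain ⟨U', hxU', V', hyV', f', hiso, hU, hV, hf', -⟩ :=
      exists_isIso_lfp f (𝟙 Y) (f.stalkMap x)
        (by rw [Category.comp_id, Scheme.SpecMap_stalkMap_fromSpecStalk]) U₀ hx₀ V₀ hy₀
    exact ⟨U', hxU', V', hyV', f', hiso, hU, hV, by simpa using hf'⟩

theorem exists_dense_opens {X Y : Scheme.{u}} (f : X ⟶ Y)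
    (hXfin : (irreducibleComponents ↥X).Finite) (hYfin : (irreducibleComponents ↥Y).Finite)
    (hbij : Set.BijOn (fun x : X => f.base x) {x : X | closure {x} ∈ irreducibleComponents ↥X}
      {y : Y | closure {y} ∈ irreducibleComponents ↥Y})
    (hiso : ∀ x : X, closure {x} ∈ irreducibleComponents ↥X → IsIso (f.stalkMap x))
    (hf : (LocallyOfFiniteType f ∧ IsReduced Y) ∨ LocallyOfFinitePresentation f) :
    ∃ (U : X.Opens) (V : Y.Opens), (∀ x : X, closure {x} ∈ irreducibleComponents ↥X → x ∈ U) ∧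
      (∀ y : Y, closure {y} ∈ irreducibleComponents ↥Y → y ∈ V) ∧
      Dense (U : Set X) ∧ Dense (V : Set Y) ∧ IsOpenImmersion (U.ι ≫ f) ∧
      Set.range (U.ι ≫ f) = V := by
  choose! OX hOX using fun x (hx : closure {x} ∈ irreducibleComponents ↥X) => exists_open_sep hXfin hx
  choose! OY hOY using fun y (hy : closure {y} ∈ irreducibleComponents ↥Y) => exists_open_sep hYfin hy
  have key : ∀ x : {x : X // closure {x} ∈ irreducibleComponents ↥X},
      ∃ (U : X.Opens) (_ : x.1 ∈ U) (V : Y.Opens) (_ : f x.1 ∈ V) (f' : U.toScheme ⟶ V.toScheme),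
        IsIso f' ∧ U ≤ OX x.1 ∧ V ≤ OY (f x.1) ∧ f' ≫ V.ι = U.ι ≫ f := fun x => by
    haveI := hiso x.1 x.2
    exact exists_local_iso f hYfin (hbij.mapsTo x.2) hf _ (hOX x.1 x.2).1 _
      (hOY (f x.1) (hbij.mapsTo x.2)).1
  choose U hxU V hyV f' hf' hUO hVO hcomp using key
  have hoi : ∀ i, IsOpenImmersion ((U i).ι ≫ f) := fun i => by
    haveI := hf' i
    rw [← hcomp]; infer_instance
  have himg : ∀ i, Set.range ((U i).ι ≫ f) = (V i : Set Y) := fun i => by
    haveI := hf' i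
    rw [← hcomp]
    rw [Scheme.Hom.comp_base, TopCat.coe_comp, Set.range_comp,
      Set.range_eq_univ.2 (show Function.Surjective (f' i) from (f' i).homeomorph.surjective),
      Set.image_univ, Scheme.Opens.range_ι]
  have hfV : ∀ i, ∀ z ∈ U i, f z ∈ V i := fun i z hz => by
    rw [← SetLike.mem_coe, ← himg i]
    exact ⟨⟨z, hz⟩, by simp⟩
  have hmem : ∀ i, f i.1 = f i.1 → ∀ z ∈ V i, ∀ j, z ∈ V j → i = j := by
    intro i _ z hzi j hzj
    obtain ⟨η, hη, hηz⟩ := DomLib.exists_max z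
    have h1 := (hOY _ (hbij.mapsTo i.2)).2.2 z (hVO i hzi) η hη hηz
    have h2 := (hOY _ (hbij.mapsTo j.2)).2.2 z (hVO j hzj) η hη hηz
    exact Subtype.ext (hbij.injOn i.2 j.2 (h1.symm.trans h2))
  have hdenseU : ∀ x : X, closure {x} ∈ irreducibleComponents ↥X → x ∈ (⨆ i, U i : X.Opens) :=
    fun x hx => Opens.mem_iSup.2 ⟨⟨x, hx⟩, hxU _⟩
  have hdenseV : ∀ y : Y, closure {y} ∈ irreducibleComponents ↥Y → y ∈ (⨆ i, V i : Y.Opens) :=
    fun y hy => by
      obtain ⟨x, hx, hxy⟩ := hbij.surjOn hy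
      exact Opens.mem_iSup.2 ⟨⟨x, hx⟩, hxy ▸ hyV _⟩
  refine ⟨⨆ i, U i, ⨆ i, V i, hdenseU, hdenseV, ?_, ?_, ?_, ?_⟩
  · intro z
    obtain ⟨η, hη, hηz⟩ := DomLib.exists_max z
    exact closure_mono (Set.singleton_subset_iff.2 (hdenseU η hη))
      (specializes_iff_mem_closure.1 hηz)
  · intro z
    obtain ⟨η, hη, hηz⟩ := DomLib.exists_max z
    exact closure_mono (Set.singleton_subset_iff.2 (hdenseV η hη))
      (specializes_iff_mem_closure.1 hηz)
  · set j := (⨆ i, U i : X.Opens).ι ≫ f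
    have hloc : ∀ z : ((⨆ i, U i : X.Opens) : Scheme.{u}), ∃ i, z.1 ∈ U i :=
      fun z => Opens.mem_iSup.1 z.2
    have hres : ∀ i, X.homOfLE (le_iSup U i) ≫ j = (U i).ι ≫ f := fun i => by
      simp only [j, Scheme.homOfLE_ι_assoc]
    haveI : IsLocalIso j := by
      refine ⟨fun z => ?_⟩
      obtain ⟨i, hi⟩ := hloc z
      refine ⟨(X.homOfLE (le_iSup U i)).opensRange, ⟨⟨z.1, hi⟩, Subtype.ext (by simp)⟩, ?_⟩
      haveI := hoi i
      have : IsOpenImmersion ((X.homOfLE (le_iSup U i)).isoOpensRange.inv ≫ X.homOfLE (le_iSup U i) ≫ j) := by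
        rw [hres]; infer_instance
      rwa [Scheme.Hom.isoOpensRange_inv_comp_assoc] at this
    have hstalk : ∀ z, IsIso (j.stalkMap z) := fun z => by
      obtain ⟨W, hzW, hW⟩ := IsLocalIso.exists_isOpenImmersion (f := j) z
      haveI := hW
      have h2 : IsIso ((W.ι ≫ j).stalkMap ⟨z, hzW⟩) := inferInstance
      rw [Scheme.Hom.stalkMap_comp] at h2
      haveI : IsIso (j.stalkMap (W.ι ⟨z, hzW⟩) ≫ W.ι.stalkMap ⟨z, hzW⟩) := h2
      exact IsIso.of_isIso_comp_right (j.stalkMap (W.ι ⟨z, hzW⟩)) (W.ι.stalkMap ⟨z, hzW⟩)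
    haveI : UniversallyOpen j :=
      (IsLocalIso.le_of_isZariskiLocalAtSource @UniversallyOpen) _ _ j ‹IsLocalIso j›
    refine IsOpenImmersion.iff_isIso_stalkMap.2
      ⟨.of_continuous_injective_isOpenMap j.continuous ?_ j.isOpenMap, hstalk⟩
    intro z w hzw
    obtain ⟨i, hi⟩ := hloc z
    obtain ⟨k, hk⟩ := hloc w
    simp only [j, Scheme.Hom.comp_apply] at hzw
    have hik : i = k := hmem i rfl _ (hfV i z.1 hi) k (by
      have := hfV k w.1 hk
      rwa [show f w.1 = f z.1 from hzw.symm] at this)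
    subst hik
    haveI := hoi i
    have := ((U i).ι ≫ f).isOpenEmbedding.injective (a₁ := ⟨z.1, hi⟩) (a₂ := ⟨w.1, hk⟩)
      (by simpa using hzw)
    exact Subtype.ext (congrArg Subtype.val this :)
  · refine Set.Subset.antisymm ?_ ?_
    · rintro _ ⟨z, rfl⟩
      obtain ⟨i, hi⟩ := Opens.mem_iSup.1 z.2
      simpa using Opens.mem_iSup.2 ⟨i, hfV i z.1 hi⟩
    · intro y hy
      obtain ⟨i, hi⟩ := Opens.mem_iSup.1 hy
      rw [← SetLike.mem_coe, ← himg i] at hi
      obtain ⟨z, rfl⟩ := hi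
      exact ⟨⟨z.1, Opens.mem_iSup.2 ⟨i, z.2⟩⟩, by simp⟩

theorem isIso_restrict_of_le {X Y : Scheme.{u}} (f : X ⟶ Y) {U : X.Opens} {V V' : Y.Opens}
    [IsOpenImmersion (U.ι ≫ f)] (hr : Set.range (U.ι ≫ f) = V) (hV : V' ≤ V) (h : f ⁻¹ᵁ V' ≤ U) :
    IsIso (f ∣_ V') := by
  haveI : IsOpenImmersion ((f ∣_ V') ≫ V'.ι) := by
    rw [morphismRestrict_ι, ← Scheme.homOfLE_ι X h, Category.assoc]
    infer_instance
  haveI : IsOpenImmersion (f ∣_ V') := IsOpenImmersion.of_comp _ V'.ι
  haveI : Surjective (f ∣_ V') := by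
    refine ⟨fun y => ?_⟩
    obtain ⟨z, hz⟩ : y.1 ∈ Set.range (U.ι ≫ f) := hr ▸ hV y.2
    rw [Scheme.Hom.comp_apply] at hz
    refine ⟨⟨z.1, show f z.1 ∈ V' by rw [show f z.1 = y.1 from hz]; exact y.2⟩, Subtype.ext ?_⟩
    simpa using hz
  exact (isIso_iff_isOpenImmersion_and_epi_base _).2
    ⟨inferInstance, (TopCat.epi_iff_surjective _).2 (f ∣_ V').surjective⟩

/-- A scheme with one point is the spectrum of its stalk. -/
theorem isIso_fromSpecStalk_of_subsingleton {P : Scheme.{u}} [Subsingleton P] (p : P) :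
    IsIso (P.fromSpecStalk p) := by
  obtain ⟨W, hW, hpW, -⟩ := exists_isAffineOpen_mem_and_subset (X := P) (x := p) (U := ⊤) trivial
  haveI : IsAffine P := by
    have e : W = ⊤ := eq_top_iff.2 fun q _ => (Subsingleton.elim p q) ▸ hpW
    subst e
    haveI : IsAffine ((⊤ : P.Opens) : Scheme.{u}) := hW
    exact IsAffine.of_isIso P.topIso.inv
  haveI : Flat (P.fromSpecStalk p) := by
    obtain ⟨U, hU, hxU, -⟩ := exists_isAffineOpen_mem_and_subset (X := P) (x := p) (U := ⊤) trivial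
    rw [← IsAffineOpen.fromSpecStalk_eq_fromSpecStalk hU hxU, IsAffineOpen.fromSpecStalk]
    have : Flat (Spec.map (P.presheaf.germ U p hxU)) := by
      rw [Flat.SpecMap_iff, RingHom.Flat]
      let := TopCat.Presheaf.algebra_section_stalk P.presheaf (⟨p, hxU⟩ : U)
      have := hU.isLocalization_stalk ⟨p, hxU⟩
      exact IsLocalization.flat (P.presheaf.stalk p) (hU.primeIdealOf ⟨p, hxU⟩).asIdeal.primeCompl
    infer_instance
  haveI : Surjective (P.fromSpecStalk p) :=
    ⟨fun q => ⟨IsLocalRing.closedPoint _, Subsingleton.elim _ _⟩⟩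
  exact Flat.isIso_of_surjective_of_mono _

end Groth.Agent.Birat
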